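import Cfsg.Agent.S0215
import Cfsg.Agent.H28.ZIso

/-!
# The frame of the `Z*_p` theorem (helper27)

* `zstar_two` : elements of order two (Glauberman, S0215);
* `zStar_of_rows` : the `Z*_p` statement from the rows `RowS p L`, `L` nonabelian simple, `p` odd.
-/

set_option autoImplicit false

namespace Cfsg.Agent.H27.ZStar

open Subgroup Cfsg Cfsg.Agent.H256.ZBasic Cfsg.Agent.H256.ZRed Cfsg.Agent.H256.ZTool Cfsg.Agent.H28.ZIso

universe u

theorem zstar_two {G : Type u} [Group G] [Finite G] (x : G) (hx : orderOf x = 2) (hiso : IsIsolated x) :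
    InZStar 2 x := by
  have : Fact (Nat.Prime 2) := ⟨Nat.prime_two⟩
  have hxk : IsPGroup 2 (zpowers x) := IsPGroup.of_card (n := 1) (by rw [Nat.card_zpowers, hx, pow_one])
  obtain ⟨P, hP⟩ := hxk.exists_le_sylow
  have hxP : x ∈ (P : Subgroup G) := hP (mem_zpowers x)
  obtain ⟨N, hN, hodd, hc⟩ := Cfsg.Agent.S0215.result P x hx hxP fun g hg => eq_of_mem hiso P.isPGroup' hxP hg
  have hle : N ≤ pPrimeCore 2 G := Lib.Cores.le_pPrimeCore hN (Nat.coprime_two_right.2 hodd)
  intro g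
  have h1 := inv_mem (hc g)
  have h2 : (x * g * x⁻¹ * g⁻¹)⁻¹ = g * x * g⁻¹ * x⁻¹ := by group
  rw [h2] at h1
  exact hle h1

/-- **The `Z*_p` statement from the rows.** -/
theorem zStar_of_rows {p : ℕ} [hp : Fact p.Prime]
    (hrow : p ≠ 2 → ∀ (L : Type u) [Group L] [Finite L] [IsSimpleGroup L], (¬ ∀ a b : L, a * b = b * a) →
      RowS.{u, u} p L)
    {G : Type u} [Group G] [Finite G] (S : Sylow p G) (x : G)
    (hxS : x ∈ (S : Subgroup G)) (hiso : ∀ g : G, g * x * g⁻¹ ∈ (S : Subgroup G) → g * x * g⁻¹ = x) :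
    InZStar p x := by
  have hI : IsIsolated x := isolated_of_sylow S hxS hiso
  obtain ⟨k, hk⟩ := (IsPGroup.iff_orderOf.1 S.isPGroup') ⟨x, hxS⟩
  have hk' : orderOf x ∣ p ^ k := by
    rw [← hk]
    exact (orderOf_injective (S : Subgroup G).subtype (subtype_injective _) ⟨x, hxS⟩).dvd
  refine of_prime_order p (fun {G} _ _ x hx hisox => ?_) k x hk' hI
  by_cases hp2 : p = 2
  · subst hp2
    exact zstar_two x hx hisox
  · refine of_minS p (fun {G} _ _ x h hs => ?_) (Nat.card G) x rfl hx hisox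
    have hsim := h.simple
    refine hrow hp2 (commutator G) ?_ x h hs (MulEquiv.refl _)
    intro hc
    apply h.not_comm
    intro a ha b hb
    exact congrArg Subtype.val (hc ⟨a, ha⟩ ⟨b, hb⟩)

end Cfsg.Agent.H27.ZStar
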