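import Mathlib
import Cfsg.Agent.H256.ZTool

/-! # Rows of the table for the `Z*_p` theorem

`CRow p K` : if `p ∣ |K|`, every automorphism `α` of order `p` of `K` has a `K`-conjugate `≠ α` which commutes
with `α`.

* `false_of_crow` : `CRow p G'` excludes minimal counterexamples `MinCex p x`;
* `CRow.congr` : invariance under isomorphisms; `row_of_crow` : `CRow p L` implies `ZTool.Row p L`. -/

set_option autoImplicit false

namespace Cfsg.Agent.H27.ZStar

open Subgroup Cfsg Cfsg.Agent.H256.ZBasic Cfsg.Agent.H256.ZRed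

universe u v

/-- Every automorphism `α` of order `p` of `K` has a `K`-conjugate `≠ α` which commutes with `α`. -/
def CRow (p : ℕ) (K : Type*) [Group K] : Prop :=
  p ∣ Nat.card K → ∀ α : MulAut K, orderOf α = p →
    ∃ k : K, Commute α (MulAut.conj k * α * (MulAut.conj k)⁻¹) ∧ MulAut.conj k * α * (MulAut.conj k)⁻¹ ≠ α

/-- Invariance under isomorphisms. -/
theorem CRow.congr {p : ℕ} {K : Type u} {L : Type v} [Group K] [Group L] (e : K ≃* L) (h : CRow p K) : CRow p L := by
  intro hp β hβ
  let c : MulAut K ≃* MulAut L := MulAut.congr e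
  obtain ⟨k, h1, h2⟩ := h (by rwa [Nat.card_congr e.toEquiv]) (c.symm β) (by
    rw [← hβ]; exact orderOf_injective c.symm.toMonoidHom c.symm.injective β)
  have hc : ∀ k : K, c (MulAut.conj k) = MulAut.conj (e k) := by
    intro k
    ext y
    simp [c, MulAut.congr, MulAut.conj_apply]
  have hcc : c (MulAut.conj k * c.symm β * (MulAut.conj k)⁻¹) =
      MulAut.conj (e k) * β * (MulAut.conj (e k))⁻¹ := by
    rw [map_mul, map_mul, map_inv, hc, c.apply_symm_apply]
  refine ⟨e k, ?_, ?_⟩
  · rw [← hcc]
    have := h1.map c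
    rwa [c.apply_symm_apply] at this
  · rw [← hcc]
    intro h3
    exact h2 (c.injective (by rw [h3, c.apply_symm_apply]))

theorem false_of_crow {G : Type u} [Group G] [Finite G] {p : ℕ} [hp : Fact p.Prime] {x : G} (h : MinCex p x)
    (hrow : CRow p (commutator G)) : False := by
  set L := commutator G with hL
  have hcen : centralizer (L : Set G) = ⊥ := h.centralizer_eq_bot
  have hinj : ∀ g : G, (MulAut.conjNormal g : MulAut L) = 1 → g = 1 := by
    intro g hg
    have h1 : g ∈ centralizer (L : Set G) := by
      rw [mem_centralizer_iff]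
      intro l hl
      have h2 := congrArg (fun t : MulAut L => ((t ⟨l, hl⟩ : L) : G)) hg
      simp only [MulAut.conjNormal_apply, MulAut.one_apply] at h2
      calc l * g = (g * l * g⁻¹) * g := by rw [h2]
        _ = g * l := by group
    rw [hcen] at h1
    exact h1
  have hinj2 : ∀ g k : G, (MulAut.conjNormal g : MulAut L) = MulAut.conjNormal k → g = k := by
    intro g k hgk
    have := hinj (g * k⁻¹) (by rw [map_mul, map_inv, hgk, mul_inv_cancel])
    rwa [mul_inv_eq_one] at this
  have hx1 : x ≠ 1 := by
    rintro rfl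
    have := h.ord
    rw [orderOf_one] at this
    exact hp.out.one_lt.ne this
  have hord : orderOf (MulAut.conjNormal x : MulAut L) = p := by
    apply orderOf_eq_prime
    · rw [← map_pow, ← h.ord, pow_orderOf_eq_one, map_one]
    · exact fun h1 => hx1 (hinj x h1)
  have hdvd : p ∣ Nat.card L :=
    dvd_card_of_ne_bot h.core (inferInstance : L.Normal).isSubnormal h.commutator_ne_bot
  obtain ⟨k, h1, h2⟩ := hrow hdvd _ hord
  have hk : (MulAut.conj k : MulAut L) = MulAut.conjNormal (k : G) := by
    ext l
    simp [MulAut.conj_apply]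
  rw [hk, ← map_mul, ← map_inv, ← map_mul] at h1 h2
  have h3 : Commute x ((k : G) * x * (k : G)⁻¹) := by
    apply hinj2
    rw [map_mul MulAut.conjNormal x, map_mul MulAut.conjNormal _ x]
    exact h1
  have h4 := h.iso (k : G) h3
  apply h2
  rw [h4]

/-- The interface of `ZTool`. -/
theorem row_of_crow {p : ℕ} [Fact p.Prime] {L : Type v} [Group L] (h : CRow p L) :
    Cfsg.Agent.H256.ZTool.Row.{u, v} p L := by
  intro G _ _ x hx e
  exact false_of_crow hx (h.congr e.symm)

end Cfsg.Agent.H27.ZStar
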