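import Mathlib
import Cfsg.Agent.H27.Psl.Lin
import Cfsg.Prelude.Def_Classical

/-! # The `Z*_p` theorem: the groups `PSL_n(q)`

`row_psl` : `Row p L` for `IsPSL L` and `p` odd (all elements and automorphisms, all characteristics). -/

set_option autoImplicit false

namespace Cfsg.Agent.H27.ZStar

open Cfsg Cfsg.Agent.H256.ZTool

universe u v

theorem crow_isPSL {p : ℕ} (hp : p.Prime) (hp2 : p ≠ 2) {L : Type v} [Group L] (h : IsPSL L) : CRow p L := by
  obtain ⟨F, _, _, n, hn, hF, ⟨e⟩⟩ := h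
  exact (Psl.crow_psl hn hF hp hp2).congr e.symm

/-- The row of `PSL_n(q)`. -/
theorem row_psl {p : ℕ} [hp : Fact p.Prime] (hp2 : p ≠ 2) {L : Type v} [Group L] (h : IsPSL L) : Row.{u, v} p L :=
  row_of_crow (crow_isPSL hp.out hp2 h)

end Cfsg.Agent.H27.ZStar
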