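import Cfsg.Agent.H27.ZStar.Trial
import Cfsg.Agent.S1082
import Cfsg.Agent.H28.DefChar

/-!
# The `Z*_p` statement: `PΩ₈⁺(q)`, `p = 3` (helper27)

* `rk_chev` : the root groups `X_{±p_i}` of `D.group K`, as the images of `up`, `lo` of `SL(2,K)`;
* `row_d4_three`, `row_pOmega_eight` : no minimal counterexample for `p = 3` in `D₄(q) ≅ PΩ₈⁺(q)`.
-/

set_option autoImplicit false

namespace Cfsg.Agent.H27.ZStar.Trial

open CoxeterSystem Cfsg.Agent.ChevalleyStructure.CoxeterGeom Cfsg.Agent.Tits.Roots Cfsg.Agent.Tits.Core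
  Cfsg.Agent.Nodes.Reps Cfsg.Agent.Nodes.BNOf
  Cfsg.Agent.Nodes.OppDec Cfsg.Agent.Nodes.RGDChev
  Cfsg.Agent.KFacts.RgdAut Cfsg.Agent.KFacts.RgdDiag Cfsg.Agent.KFacts.RgdRigid
  Cfsg.Agent.KFacts.RgdField Cfsg.Agent.KFacts.RgdTau Cfsg.Agent.KFacts.RgdChevCoord
open Cfsg.Lie Cfsg.Agent.ChevalleyStructure Cfsg.Agent.ChevalleyStructure.Elts
  Cfsg.Agent.ChevalleyStructure.NPerm Cfsg.Agent.ChevalleyStructure.CoxeterGeomTypes
open Subgroup Cfsg Cfsg.Agent.H256.ZBasic Cfsg.Agent.H256.ZRed Cfsg.Agent.H256.ZTool Cfsg.Agent.H28.ZIso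
  Cfsg.Agent.H28.SLTwoRow Cfsg.Agent.H28.FrameRow
open Cfsg.Agent.ChevalleyStructure.SL2Hom (up lo)

universe u v

variable {D : ChevalleyDatum} {l : ℕ} {M : CoxeterMatrix (Fin l)}

/-- The homomorphism `SL₂(K) → D.group K` of the root `s`. -/
noncomputable def phiD (hp : IsType D l M) (K : Type u) [Field K] {s : ℕ} (hs : s < D.nroots) :
    SL2 K →* ↥(D.group K) :=
  (SL2Hom.phi (SL2All.good_of_mem D hp.inList s hs) K).codRestrict (D.group K) (fun g => by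
    have h1 := SL2Hom.range_phi (F := K) (SL2All.good_of_mem D hp.inList s hs)
    have h2 : D.rootSubgroup K s ⊔ D.rootSubgroup K (D.neg s) ≤ D.group K := by
      rw [← XV_vec hp K hs, ← XV_vec hp K (neg_lt hp.inList hs)]
      exact sup_le (XV_le_group hp _) (XV_le_group hp _)
    rw [← h1] at h2
    exact h2 ⟨g, rfl⟩)

theorem phiD_up (hp : IsType D l M) (K : Type u) [Field K] {s : ℕ} (hs : s < D.nroots) (t : K) :
    (phiD hp K hs (up t) : GL D.Idx K) = xG hp.inList s t :=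
  Units.ext (SL2Hom.phi_upper _ _ t rfl)

theorem phiD_lo (hp : IsType D l M) (K : Type u) [Field K] {s : ℕ} (hs : s < D.nroots) (t : K) :
    (phiD hp K hs (lo t) : GL D.Idx K) = xG hp.inList (D.neg s) t :=
  Units.ext (SL2Hom.phi_lower _ _ t rfl)

theorem rk_chev (hp : IsType D l M) (K : Type u) [Field K] (i : Fin l) :
    Rk (TT D K) (XX D l K (sr i)) (XX D l K (-sr i)) (phiD hp K (simple_lt hp.inList (lt_rank hp i))) where
  pos y := by
    rw [mem_subgroupOf, XV_sr hp, mem_rootSubgroup_iff hp.inList]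
    constructor
    · rintro ⟨t, ht⟩
      exact ⟨t, Subtype.ext (by rw [ht, phiD_up])⟩
    · rintro ⟨t, rfl⟩
      exact ⟨t, phiD_up hp K _ t⟩
  neg y := by
    rw [mem_subgroupOf, XV_neg_sr hp, mem_rootSubgroup_iff hp.inList]
    constructor
    · rintro ⟨t, ht⟩
      exact ⟨t, Subtype.ext (by rw [ht, phiD_lo])⟩
    · rintro ⟨t, rfl⟩
      exact ⟨t, phiD_lo hp K _ t⟩
  inj a b hab := by
    have h1 := congrArg (fun g : ↥(D.group K) => (g : GL D.Idx K)) hab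
    simp only [phiD_up] at h1
    exact xG_injective hp.inList (simple_lt hp.inList (lt_rank hp i)) h1
  tor t ht := by
    obtain ⟨c, hc0, hct⟩ := BNChev.diagonal_conj hp.inList (F := K) (h := t) ht
      (simple_lt hp.inList (lt_rank hp i))
    refine ⟨c, fun a => Subtype.ext ?_⟩
    rw [Subgroup.coe_mul, Subgroup.coe_mul, Subgroup.coe_inv, phiD_up, phiD_up]
    exact hct a

/-- The matrix of `coxeterD4`. -/
def c4 (i j : Fin 4) : ℕ :=
  (![![1, 3, 2, 2], ![3, 1, 3, 3], ![2, 3, 1, 2], ![2, 3, 2, 1]] : Fin 4 → Fin 4 → ℕ) i j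

theorem c4_eq (i j : Fin 4) : coxeterD4 i j = c4 i j := by
  fin_cases i <;> fin_cases j <;> rfl

theorem sym_c4 : ∀ σ : Equiv.Perm (Fin 4), (∀ i j, c4 (σ i) (σ j) = c4 i j) → σ ^ 3 = 1 → σ = 1 ∨
    ∃ i j : Fin 4, i ≠ σ i ∧ c4 i (σ i) = 2 ∧ j ≠ i ∧ j ≠ σ i ∧ j ≠ σ (σ i) := by
  decide +kernel

theorem sym_D4 (σ : Equiv.Perm (Fin 4)) (hσ : ∀ i j, coxeterD4 (σ i) (σ j) = coxeterD4 i j) (h3 : σ ^ 3 = 1) :
    σ = 1 ∨ ∃ i j : Fin 4, i ≠ σ i ∧ coxeterD4 i (σ i) = 2 ∧ j ≠ i ∧ j ≠ σ i ∧ j ≠ σ (σ i) := by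
  simp only [c4_eq] at hσ ⊢
  exact sym_c4 σ hσ h3

/-- `D₄(q)`, `q` not a power of `3`, `p = 3`. -/
theorem row_d4_three {K : Type v} [Field K] [Finite K] {r : ℕ} [Fact r.Prime] [CharP K r] (hr3 : r ≠ 3) :
    Row.{u, v} 3 ↥(chevD4.group K) := by
  have : Fact (Nat.Prime 3) := ⟨Nat.prime_three⟩
  intro G _ _ x h e
  have hp : IsType chevD4 4 coxeterD4 := by simp [IsType, typeList]
  have hW := finite_W hp (coxeterD4.toCoxeterSystem)
  have R := rgd (K := K) hp coxeterD4.toCoxeterSystem r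
  have hG1 : RGD.Sup (XX chevD4 4 K) {x | IsRoot coxeterD4.toCoxeterSystem hp.isCartan x} = ⊤ :=
    G1_eq_top hp coxeterD4.toCoxeterSystem
  refine false_three R hr3 hG1 (by decide) (fun i => ?_) sym_D4 ⟨0, 2, by decide, by decide⟩ h e
  exact ⟨K, inferInstance, _, rk_chev hp K i, inferInstance, inferInstance⟩

/-- **`PΩ₈⁺(q)`**, `q` not a power of `3`, `p = 3`. -/
theorem row_pOmega_eight {K : Type v} [Field K] [Finite K] {r : ℕ} [Fact r.Prime] [CharP K r] (hr3 : r ≠ 3) :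
    Row.{u, v} 3 (POmega K (quadFormPlus 4 K)) := by
  obtain ⟨e⟩ := Cfsg.Agent.S1082.result (F := K)
  intro G _ _ x h f
  exact row_d4_three (K := K) hr3 x h (f.trans e.symm)

end Cfsg.Agent.H27.ZStar.Trial
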